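import Cfsg.Agent.H686.CharKit
import Cfsg.Agent.OddOrderCharacters.PF9.CliffGen
import Cfsg.Agent.CharactersDeep.AbelianQuotient

/-!
# S4933: 2-groups with two character degrees `1, 2^a`, `a ≥ 2` (helper709; proof of helper283)

`ip_two` : a 2-group all of whose irreducible characters have degree `1` or `2^a`, `2 ≤ a`, has class at most 2.
-/

set_option autoImplicit false
set_option linter.unusedSectionVars false
set_option linter.unusedVariables false

namespace Cfsg.Agent.H709.HT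

open Cfsg Cfsg.Agent.Characters.Core Cfsg.Agent.H686.CharKit Cfsg.Agent.OddOrderCharacters.IndRes
  Cfsg.Agent.OddOrderCharacters.NormalInduced Cfsg.Agent.OddOrderCharacters.PF9.CliffGen
open Cfsg.Agent.OddOrderCharacters (PF4Type.exists_irr_constituent)
open scoped commutatorElement

universe u

/-- The degrees are `1` and `d`. -/
def Cd (P : Type u) [Group P] (d : ℕ) : Prop :=
  ∀ χ : IrrCharacter P, charDegree (χ : P → ℂ) = 1 ∨ charDegree (χ : P → ℂ) = d

theorem Cd.quotient {P : Type u} [Group P] [Finite P] {d : ℕ} (h : Cd P d) (N : Subgroup P) [N.Normal] :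
    Cd (P ⧸ N) d := by
  intro χ
  have h1 := charDegree_irr (infl N χ)
  have h2 := charDegree_irr χ
  rw [infl_apply] at h1
  have h3 : ((1 : P) : P ⧸ N) = 1 := rfl
  rw [h3, ← h2] at h1
  have h4 : charDegree (infl N χ : P → ℂ) = charDegree (χ : P ⧸ N → ℂ) := by exact_mod_cast h1
  rw [← h4]
  exact h _

section base

variable {P : Type u} [Group P]

theorem normal_of_le {A : Subgroup P} (hA : commutator P ≤ A) : A.Normal := by
  refine ⟨fun a ha g => ?_⟩
  have h1 : ⁅g, a⁆ ∈ A := hA (Subgroup.commutator_mem_commutator (Subgroup.mem_top g) (Subgroup.mem_top a))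
  have h2 : g * a * g⁻¹ = ⁅g, a⁆ * a := by rw [commutatorElement_def]; group
  rw [h2]
  exact A.mul_mem h1 ha

theorem le_index [Finite P] {d : ℕ} (h : Cd P d) (A : Subgroup P) (hA : commutator P ≤ A)
    (hne : ⁅A, A⁆ ≠ commutator P) : d ≤ A.index := by
  classical
  have := Fintype.ofFinite P
  have hN : A.Normal := normal_of_le hA
  have hN2 : (⁅A, A⁆ : Subgroup P).Normal := Subgroup.commutator_normal A A
  have hle : ⁅A, A⁆ ≤ commutator P := by
    rw [commutator_def]
    exact Subgroup.commutator_mono le_top le_top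
  obtain ⟨g, hg, hg'⟩ : ∃ g ∈ commutator P, g ∉ (⁅A, A⁆ : Subgroup P) := by
    by_contra hc
    push Not at hc
    exact hne (le_antisymm hle hc)
  by_contra hd
  apply hg'
  refine mem_of_forall_chKer _ fun χ hχ => ?_
  obtain ⟨k, hk, hk'⟩ := degree_le_index A χ.2 (fun y hy => mem_chKer.1 (hχ hy))
  have h1 : charDegree (χ : P → ℂ) = k := by
    have := charDegree_irr χ
    rw [hk] at this
    exact_mod_cast this
  rcases h χ with h2 | h2
  · have h3 : (χ : P → ℂ) 1 = 1 := by rw [← charDegree_irr, h2, Nat.cast_one]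
    obtain ⟨f, hf⟩ := Characters.Linear.exists_hom_of_isIrrCharacter χ.2 h3
    have h4 : commutator P ≤ chKer χ := by
      rw [commutator_def, Subgroup.commutator_le]
      intro a _ b _
      rw [mem_chKer, hf]
      simp only [map_one]
      have : f ⁅a, b⁆ = 1 := by
        rw [map_commutatorElement]
        exact commutatorElement_eq_one_iff_mul_comm.2 (mul_comm _ _)
      rw [this]
    exact h4 hg
  · exfalso
    apply hd
    rw [← h2, h1]
    exact hk'

/-- the constituents on the derived subgroup, if it is abelian -/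
theorem exists_lin [Finite P] [Fintype ↥(commutator P)] (hab : ∀ m ∈ commutator P, ∀ n ∈ commutator P, m * n = n * m)
    {T : Subgroup P} [Fintype ↥T] (hT : T = Subgroup.centralizer (commutator P : Set P)) (hDT : commutator P ≤ T)
    {ψ : T → ℂ} (hψ : IsIrrCharacter T ψ) :
    ∃ f : ↥(commutator P) →* ℂˣ, classInner (resTo hDT ψ) (fun n => (f n : ℂ)) ≠ 0 ∧
      ∀ n : ↥(commutator P), ψ ⟨n, hDT n.2⟩ = ψ 1 * f n := by
  classical
  have := Fintype.ofFinite P
  have h0 : resTo hDT ψ ≠ 0 := by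
    intro h
    exact isIrr_apply_one_ne_zero hψ (congrFun h 1)
  obtain ⟨θ, hθ, h1⟩ := PF4Type.exists_irr_constituent (isCharacter_resTo hDT (isIrr_isCharacter hψ)) h0
  obtain ⟨f, rfl⟩ := exists_hom_of_ker hθ (by
    intro y hy
    have h2 : commutator ↥(commutator P) = ⊥ := by
      rw [commutator_def ↥(commutator P), eq_bot_iff, Subgroup.commutator_le]
      intro a _ b _
      rw [Subgroup.mem_bot, commutatorElement_eq_one_iff_mul_comm]
      exact Subtype.ext (hab a a.2 b b.2)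
    rw [h2, Subgroup.mem_bot] at hy
    rw [hy])
  refine ⟨f, h1, fun n => ?_⟩
  refine resTo_linear (N := commutator P) (T := T) (lam := f) (fun g hg => ?_) hDT hψ h1 n
  funext n
  rw [conjFn_apply]
  congr 2
  apply Subtype.ext
  rw [hT, Subgroup.mem_centralizer_iff] at hg
  have h3 := hg n n.2
  show g * n * g⁻¹ = n
  rw [← h3, mul_inv_cancel_right]

theorem cliff [Finite P] {d : ℕ} (h : Cd P d) (hd : 1 < d)
    (hab : ∀ m ∈ commutator P, ∀ n ∈ commutator P, m * n = n * m) {z : P} (hzD : z ∈ commutator P) (hz1 : z ≠ 1)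
    (hc : ∀ n ∈ commutator P, ∀ x : P, x * n * x⁻¹ = n ∨ x * n * x⁻¹ = z * n)
    {T : Subgroup P} (hT : T = Subgroup.centralizer (commutator P : Set P)) (hDT : commutator P ≤ T)
    (hle : d ≤ T.index) {ψ : T → ℂ} (hψ : IsIrrCharacter T ψ) (hz : ψ ⟨z, hDT hzD⟩ ≠ ψ 1) : ψ 1 = 1 ∧ T.index = d := by
  classical
  have := Fintype.ofFinite P
  have := Fintype.ofFinite ↥T
  have := Fintype.ofFinite ↥(commutator P)
  obtain ⟨f, h1, h2⟩ := exists_lin hab hT hDT hψ
  have hfz : (f ⟨z, hzD⟩ : ℂ) ≠ 1 := by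
    intro h3
    apply hz
    have h4 := h2 ⟨z, hzD⟩
    rw [h3, mul_one] at h4
    exact h4
  have h3 : ∀ g, g ∈ T ↔ conjFn (commutator P) (fun n => (f n : ℂ)) g = fun n => (f n : ℂ) := by
    intro g
    constructor
    · intro hg
      funext n
      rw [conjFn_apply]
      congr 2
      apply Subtype.ext
      rw [hT, Subgroup.mem_centralizer_iff] at hg
      have h3 := hg n n.2
      show g * n * g⁻¹ = n
      rw [← h3, mul_inv_cancel_right]
    · intro hg
      rw [hT, Subgroup.mem_centralizer_iff]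
      intro n hn
      rcases hc n hn g with h4 | h4
      · rw [mul_inv_eq_iff_eq_mul] at h4
        exact h4.symm
      · exfalso
        have h5 := congrFun hg ⟨n, hn⟩
        rw [conjFn_apply] at h5
        have h6 : (⟨g * (⟨n, hn⟩ : ↥(commutator P)) * g⁻¹, Subgroup.Normal.conj_mem inferInstance n hn g⟩ :
            ↥(commutator P)) = ⟨z, hzD⟩ * ⟨n, hn⟩ := Subtype.ext h4
        rw [h6, map_mul, Units.val_mul] at h5
        apply hfz
        exact mul_right_cancel₀ (Units.ne_zero _) (h5.trans (one_mul _).symm)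
  have h4 := irr_ind (Characters.Linear.isIrrCharacter_hom f) h3 hDT hψ h1
  obtain ⟨k, hk0, hk⟩ := isIrr_apply_one hψ
  have h5 : (charDegree (indFun T ψ) : ℂ) = T.index * k := by
    have := charDegree_irr ⟨_, h4⟩
    rw [this]
    show indFun T ψ 1 = _
    rw [indFun_apply_one, hk]
  have h6 : charDegree (indFun T ψ) = T.index * k := by exact_mod_cast h5
  have h7 := h ⟨_, h4⟩
  change charDegree (indFun T ψ) = 1 ∨ charDegree (indFun T ψ) = d at h7
  rw [h6] at h7
  have hk1 : 1 ≤ k := by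
    rcases Nat.eq_zero_or_pos k with h8 | h8
    · exfalso
      rw [h8, Nat.cast_zero] at hk
      exact isIrr_apply_one_ne_zero hψ hk
    · exact h8
  have h8 : T.index ≤ T.index * k := Nat.le_mul_of_pos_right _ hk1
  rcases h7 with h7 | h7
  · omega
  · have h9 : T.index = d := by omega
    refine ⟨?_, h9⟩
    have h10 : k = 1 := by
      rw [h9] at h7
      exact Nat.eq_of_mul_eq_mul_left (by omega : 0 < d) (by rw [h7, mul_one])
    rw [hk, h10, Nat.cast_one]

/-- The elementary data. -/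
structure Dat (z : P) : Prop where
  mem : z ∈ commutator P
  ne : z ≠ 1
  cen : ∀ x : P, x * z = z * x
  sq : z * z = 1
  conj : ∀ n ∈ commutator P, ∀ x : P, x * n * x⁻¹ = n ∨ x * n * x⁻¹ = z * n

/-- `x ↦ [x, n]`, a homomorphism into the centre. -/
noncomputable def Dat.hom {z : P} (h : Dat z) {n : P} (hn : n ∈ commutator P) : P →* Subgroup.center P where
  toFun x := ⟨x * n * x⁻¹ * n⁻¹, by
    rw [Subgroup.mem_center_iff]
    intro g
    rcases h.conj n hn x with hx | hx
    · rw [hx, mul_inv_cancel, mul_one, one_mul]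
    · rw [hx, mul_inv_cancel_right, h.cen]⟩
  map_one' := by
    apply Subtype.ext
    show 1 * n * 1⁻¹ * n⁻¹ = 1
    group
  map_mul' x y := by
    apply Subtype.ext
    show x * y * n * (x * y)⁻¹ * n⁻¹ = x * n * x⁻¹ * n⁻¹ * (y * n * y⁻¹ * n⁻¹)
    have h1 : ∀ g : P, g * (y * n * y⁻¹ * n⁻¹) = (y * n * y⁻¹ * n⁻¹) * g := by
      intro g
      rcases h.conj n hn y with hy | hy
      · rw [hy, mul_inv_cancel, mul_one, one_mul]
      · rw [hy, mul_inv_cancel_right, h.cen]
    have h2 : x * y * n * (x * y)⁻¹ * n⁻¹ = x * (y * n * y⁻¹ * n⁻¹) * (n * x⁻¹ * n⁻¹) := by group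
    have h3 : x * n * x⁻¹ * n⁻¹ * (y * n * y⁻¹ * n⁻¹) = x * ((n * x⁻¹ * n⁻¹) * (y * n * y⁻¹ * n⁻¹)) := by group
    rw [h2, h3, h1 (n * x⁻¹ * n⁻¹), mul_assoc x]

theorem Dat.abel {z : P} (h : Dat z) : ∀ m ∈ commutator P, ∀ n ∈ commutator P, m * n = n * m := by
  intro m hm n hn
  have h1 : commutator P ≤ (h.hom hn).ker := by
    rw [commutator_def, Subgroup.commutator_le]
    intro x _ y _
    rw [MonoidHom.mem_ker, map_commutatorElement, commutatorElement_eq_one_iff_mul_comm]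
    exact Subtype.ext ((Subgroup.mem_center_iff.1 (h.hom hn x).2 _).symm)
  have h2 : m * n * m⁻¹ * n⁻¹ = 1 := congrArg Subtype.val (MonoidHom.mem_ker.1 (h1 hm))
  rw [mul_inv_eq_one, mul_inv_eq_iff_eq_mul] at h2
  exact h2

theorem core [Finite P] {a : ℕ} (ha : 2 ≤ a) (hcd : Cd P (2 ^ a)) {z : P} (h : Dat z) {n₀ x₀ : P}
    (hn₀ : n₀ ∈ commutator P) (hx₀ : x₀ * n₀ * x₀⁻¹ ≠ n₀) : False := by
  classical
  have hab := h.abel
  have h4 : 4 ≤ 2 ^ a := le_trans (by norm_num) (Nat.pow_le_pow_right (by norm_num) ha)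
  obtain ⟨C, hC⟩ : ∃ C : Subgroup P, C = Subgroup.centralizer (commutator P : Set P) := ⟨_, rfl⟩
  have hCmem : ∀ g, g ∈ C ↔ ∀ n ∈ commutator P, g * n * g⁻¹ = n := by
    intro g
    rw [hC, Subgroup.mem_centralizer_iff]
    refine forall₂_congr fun n _ => ?_
    rw [mul_inv_eq_iff_eq_mul]
    exact eq_comm
  have hDC : commutator P ≤ C := by
    intro g hg
    rw [hCmem]
    intro n hn
    rw [hab g hg n hn, mul_inv_cancel_right]
  have hCn : C.Normal := normal_of_le hDC
  -- `[C, C] ≠ D`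
  have hCC : ⁅C, C⁆ ≠ commutator P := by
    intro he
    have h1 : ⁅⁅C, (⊤ : Subgroup P)⁆, C⁆ = ⊥ := by
      rw [Subgroup.commutator_eq_bot_iff_le_centralizer, Subgroup.commutator_le]
      intro c _ g _
      rw [Subgroup.mem_centralizer_iff]
      intro y hy
      have h2 : ⁅c, g⁆ ∈ commutator P :=
        Subgroup.commutator_mem_commutator (Subgroup.mem_top c) (Subgroup.mem_top g)
      have h3 := (hCmem y).1 hy _ h2
      rw [mul_inv_eq_iff_eq_mul] at h3
      exact h3
    have h1' : ⁅⁅(⊤ : Subgroup P), C⁆, C⁆ = ⊥ := by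
      rw [Subgroup.commutator_comm (⊤ : Subgroup P) C]
      exact h1
    have h2 := Subgroup.commutator_commutator_eq_bot_of_rotate h1 h1'
    rw [he, Subgroup.commutator_eq_bot_iff_le_centralizer] at h2
    have h3 := h2 hn₀
    rw [Subgroup.mem_centralizer_iff] at h3
    apply hx₀
    rw [h3 x₀ (Subgroup.mem_top x₀), mul_inv_cancel_right]
  have hle : 2 ^ a ≤ C.index := le_index hcd C hDC hCC
  have hcl : ∀ {ψ : C → ℂ}, IsIrrCharacter C ψ → ψ ⟨z, hDC h.mem⟩ ≠ ψ 1 → ψ 1 = 1 ∧ C.index = 2 ^ a :=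
    fun {ψ} hψ hz => cliff hcd (by omega) hab h.mem h.ne h.conj hC hDC hle hψ hz
  -- a linear character of `C` not trivial on `z`
  obtain ⟨ψ₀, hψ₀⟩ : ∃ ψ : IrrCharacter C, (ψ : C → ℂ) ⟨z, hDC h.mem⟩ ≠ (ψ : C → ℂ) 1 := by
    by_contra hc
    push Not at hc
    have h1 : (⟨z, hDC h.mem⟩ : C) ∈ (⊥ : Subgroup C) :=
      mem_of_forall_chKer _ fun χ _ => mem_chKer.2 (hc χ)
    rw [Subgroup.mem_bot] at h1
    exact h.ne (congrArg Subtype.val h1)
  obtain ⟨h01, hidx⟩ := hcl ψ₀.2 hψ₀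
  obtain ⟨l, hl⟩ := Characters.Linear.exists_hom_of_isIrrCharacter ψ₀.2 h01
  have hlz : (l ⟨z, hDC h.mem⟩ : ℂ) ≠ 1 := by
    intro h1
    apply hψ₀
    rw [hl]
    show (l ⟨z, hDC h.mem⟩ : ℂ) = (l 1 : ℂ)
    rw [h1, map_one, Units.val_one]
  -- all characters of `C` are linear
  have hlin : ∀ ψ : IrrCharacter C, (ψ : C → ℂ) 1 = 1 := by
    intro ψ
    have := Fintype.ofFinite C
    by_cases hz : (ψ : C → ℂ) ⟨z, hDC h.mem⟩ = (ψ : C → ℂ) 1
    · have h1 := Cfsg.Agent.CharactersDeep.AbelianQuotient.isIrr_linear_mul l ψ.2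
      have h2 := (hcl h1 (by
        simp only [Pi.mul_apply, map_one, Units.val_one, one_mul]
        rw [hz]
        intro h3
        apply hlz
        exact mul_right_cancel₀ (isIrr_apply_one_ne_zero ψ.2) (h3.trans (one_mul _).symm))).1
      simpa using h2
    · exact (hcl ψ.2 hz).1
  -- `C` is abelian
  have hCab : ∀ x ∈ C, ∀ y ∈ C, x * y = y * x := by
    intro x hx y hy
    have h1 : ⁅(⟨x, hx⟩ : C), (⟨y, hy⟩ : C)⁆ ∈ (⊥ : Subgroup C) := by
      refine mem_of_forall_chKer _ fun χ _ => ?_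
      obtain ⟨f, hf⟩ := Characters.Linear.exists_hom_of_isIrrCharacter χ.2 (hlin χ)
      rw [mem_chKer, hf]
      show (f ⁅(⟨x, hx⟩ : C), (⟨y, hy⟩ : C)⁆ : ℂ) = (f 1 : ℂ)
      rw [map_commutatorElement, map_one, commutatorElement_eq_one_iff_mul_comm.2 (mul_comm _ _)]
    rw [Subgroup.mem_bot, commutatorElement_eq_one_iff_mul_comm] at h1
    exact congrArg Subtype.val h1
  -- squares are in `C`
  have hsq : ∀ g : P, g * g ∈ C := by
    intro g
    rw [hCmem]
    intro n hn
    have h1 : g * g * n * (g * g)⁻¹ = g * (g * n * g⁻¹) * g⁻¹ := by group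
    rw [h1]
    rcases h.conj n hn g with h2 | h2
    · rw [h2, h2]
    · rw [h2]
      have h3 : g * (z * n) * g⁻¹ = z * (g * n * g⁻¹) := by rw [← mul_assoc, h.cen g]; group
      rw [h3, h2, ← mul_assoc, h.sq, one_mul]
  have hcj : ∀ g : P, ∀ c ∈ C, g * c * g⁻¹ ∈ C := fun g c hc => hCn.conj_mem c hc g
  -- elements outside `C` invert `D`, if ...
  have hinv : ∀ g : P, g ∉ C → (∀ n ∈ commutator P, g * n * g⁻¹ = n⁻¹) ∧ ∃ k : P, k ∉ C ∧ k * g⁻¹ ∉ C := by
    intro g hg
    let A : Subgroup P :=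
      { carrier := {x | x ∈ C ∨ x * g⁻¹ ∈ C}
        one_mem' := Or.inl C.one_mem
        mul_mem' := by
          intro x y hx hy
          rcases hx with hx | hx <;> rcases hy with hy | hy
          · exact Or.inl (C.mul_mem hx hy)
          · refine Or.inr ?_
            rw [mul_assoc]
            exact C.mul_mem hx hy
          · refine Or.inr ?_
            have h1 : x * y * g⁻¹ = (x * g⁻¹) * (g * y * g⁻¹) := by group
            rw [h1]
            exact C.mul_mem hx (hcj g y hy)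
          · refine Or.inl ?_
            have h1 : x * y = (x * g⁻¹) * (g * (y * g⁻¹) * g⁻¹) * (g * g) := by group
            rw [h1]
            exact C.mul_mem (C.mul_mem hx (hcj g _ hy)) (hsq g)
        inv_mem' := by
          intro x hx
          rcases hx with hx | hx
          · exact Or.inl (C.inv_mem hx)
          · refine Or.inr ?_
            have h1 : x⁻¹ * g⁻¹ = (g * (x * g⁻¹) * g⁻¹ * (g * g))⁻¹ := by group
            rw [h1]
            exact C.inv_mem (C.mul_mem (hcj g _ hx) (hsq g)) }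
    have hAmem : ∀ x, x ∈ A ↔ x ∈ C ∨ x * g⁻¹ ∈ C := fun x => Iff.rfl
    have hCA : C < A := by
      refine lt_of_le_of_ne (fun x hx => Or.inl hx) ?_
      intro he
      apply hg
      rw [he, hAmem]
      right
      rw [mul_inv_cancel]
      exact C.one_mem
    have hAi : A.index < 2 ^ a := by
      rw [← hidx]
      exact Subgroup.index_strictAnti hCA
    have hAA : ⁅A, A⁆ = commutator P := by
      by_contra hc
      have := le_index hcd A (hDC.trans hCA.le) hc
      omega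
    let B : Subgroup P :=
      { carrier := {x | x ∈ C ∧ g * x * g⁻¹ = x⁻¹}
        one_mem' := ⟨C.one_mem, by group⟩
        mul_mem' := by
          rintro x y ⟨hx, hx'⟩ ⟨hy, hy'⟩
          refine ⟨C.mul_mem hx hy, ?_⟩
          have h1 : g * (x * y) * g⁻¹ = (g * x * g⁻¹) * (g * y * g⁻¹) := by group
          rw [h1, hx', hy', hCab x hx y hy, mul_inv_rev, hCab _ (C.inv_mem hx) _ (C.inv_mem hy), 
            hCab _ (C.inv_mem hy) _ (C.inv_mem hx)]
        inv_mem' := by
          rintro x ⟨hx, hx'⟩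
          refine ⟨C.inv_mem hx, ?_⟩
          have h1 : g * x⁻¹ * g⁻¹ = (g * x * g⁻¹)⁻¹ := by group
          rw [h1, hx'] }
    have hB1 : ∀ c ∈ C, c * (g * c * g⁻¹)⁻¹ ∈ B := by
      intro c hc
      have h1 := hcj g c hc
      refine ⟨C.mul_mem hc (C.inv_mem h1), ?_⟩
      have h2 : g * (c * (g * c * g⁻¹)⁻¹) * g⁻¹ = (g * c * g⁻¹) * ((g * g) * c⁻¹ * (g * g)⁻¹) := by group
      rw [h2, hCab _ (hsq g) _ (C.inv_mem hc), mul_inv_cancel_right, mul_inv_rev, inv_inv]
    have hAB : ⁅A, A⁆ ≤ B := by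
      rw [Subgroup.commutator_le]
      -- one in `C`, one outside
      have h1 : ∀ x ∈ C, ∀ y, y * g⁻¹ ∈ C → ⁅x, y⁆ ∈ B := by
        intro x hx y hy
        have h2 : ⁅x, y⁆ = x * ((y * g⁻¹) * (g * x * g⁻¹)⁻¹ * (y * g⁻¹)⁻¹) := by
          rw [commutatorElement_def]; group
        rw [h2, hCab _ hy _ (C.inv_mem (hcj g x hx)), mul_inv_cancel_right]
        exact hB1 x hx
      intro x hx y hy
      rcases hx with hx | hx <;> rcases hy with hy | hy
      · rw [commutatorElement_eq_one_iff_mul_comm.2 (hCab x hx y hy)]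
        exact B.one_mem
      · exact h1 x hx y hy
      · rw [← commutatorElement_inv]
        exact B.inv_mem (h1 y hy x hx)
      · have h2 : ⁅x, y⁆ = (x * g⁻¹) * ((g * (y * g⁻¹) * g⁻¹) * (g * (x * g⁻¹) * g⁻¹)⁻¹ * (y * g⁻¹)⁻¹) := by
          rw [commutatorElement_def]; group
        have h3 := hcj g _ hx
        have h4 := hcj g _ hy
        have h5 : (x * g⁻¹) * ((g * (y * g⁻¹) * g⁻¹) * (g * (x * g⁻¹) * g⁻¹)⁻¹ * (y * g⁻¹)⁻¹) =
            ((x * g⁻¹) * (g * (x * g⁻¹) * g⁻¹)⁻¹) * ((y * g⁻¹) * (g * (y * g⁻¹) * g⁻¹)⁻¹)⁻¹ := by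
          rw [mul_inv_rev (y * g⁻¹), inv_inv, hCab _ h4 _ (C.inv_mem h3)]
          group
        rw [h2, h5]
        exact B.mul_mem (hB1 _ hx) (B.inv_mem (hB1 _ hy))
    refine ⟨fun n hn => ?_, ?_⟩
    · rw [← hAA] at hn
      exact (hAB hn).2
    · by_contra hc
      push Not at hc
      have h1 : C.index = 2 := by
        rw [Subgroup.index_eq_two_iff]
        refine ⟨g⁻¹, fun b => ?_⟩
        by_cases hb : b ∈ C
        · refine Or.inr ⟨hb, fun hb' => hg ?_⟩
          have := C.mul_mem (C.inv_mem hb) hb'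
          rw [inv_mul_cancel_left] at this
          exact inv_mem_iff.1 this
        · exact Or.inl ⟨hc b hb, hb⟩
      omega
  have hx₀C : x₀ ∉ C := fun hc => hx₀ ((hCmem x₀).1 hc n₀ hn₀)
  obtain ⟨h1, k, hk, hk'⟩ := hinv x₀ hx₀C
  have h2 := (hinv k hk).1 n₀ hn₀
  have h3 := (hinv _ hk').1 n₀ hn₀
  -- `k x₀⁻¹` inverts `n₀`
  have h5 : x₀⁻¹ * n₀ * x₀ = n₀⁻¹ := by
    have h6 := h1 _ ((commutator P).inv_mem hn₀)
    rw [inv_inv] at h6
    calc x₀⁻¹ * n₀ * x₀ = x₀⁻¹ * (x₀ * n₀⁻¹ * x₀⁻¹) * x₀ := by rw [h6]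
      _ = n₀⁻¹ := by group
  have h6 : k * x₀⁻¹ * n₀ * (k * x₀⁻¹)⁻¹ = k * (x₀⁻¹ * n₀ * x₀) * k⁻¹ := by group
  have h7 : k * n₀⁻¹ * k⁻¹ = (k * n₀ * k⁻¹)⁻¹ := by group
  rw [h6, h5, h7, h2, inv_inv] at h3
  apply hx₀
  rw [h1 n₀ hn₀, ← h3]

end base

theorem ip_two_aux {a : ℕ} (ha : 2 ≤ a) : ∀ (m : ℕ) (P : Type u) [Group P] [Finite P], Nat.card P = m → IsPGroup 2 P →
    Cd P (2 ^ a) → ⁅⁅(⊤ : Subgroup P), (⊤ : Subgroup P)⁆, (⊤ : Subgroup P)⁆ = ⊥ := by
  intro m
  induction m using Nat.strong_induction_on with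
  | _ m ih =>
  intro P _ _ hm h2 hcd
  by_contra hne
  have : Fact (Nat.Prime 2) := ⟨Nat.prime_two⟩
  have hnt : Nontrivial P := by
    by_contra hc
    rw [not_nontrivial_iff_subsingleton] at hc
    exact hne (Subsingleton.elim _ _)
  have hcn := h2.center_nontrivial
  -- a central involution
  obtain ⟨z₀, hz₀⟩ : ∃ z₀ : Subgroup.center P, orderOf z₀ = 2 := by
    refine exists_prime_orderOf_dvd_card' 2 ?_
    obtain ⟨k, hk⟩ := (h2.to_subgroup (Subgroup.center P)).exists_card_eq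
    have h1 : 1 < Nat.card (Subgroup.center P) := Finite.one_lt_card
    rw [hk] at h1 ⊢
    refine dvd_pow_self 2 ?_
    rintro rfl
    simp at h1
  obtain ⟨z, hzc⟩ := z₀
  have hz2 : orderOf z = 2 := by rw [← hz₀]; exact (Subgroup.orderOf_mk z hzc).symm
  have hzz : z * z = 1 := by rw [← pow_two, ← hz2]; exact pow_orderOf_eq_one z
  have hz1 : z ≠ 1 := by
    intro h
    rw [h, orderOf_one] at hz2
    omega
  have hcen : ∀ x : P, x * z = z * x := fun x => Subgroup.mem_center_iff.1 hzc x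
  have hZ : ∀ g ∈ Subgroup.zpowers z, g = 1 ∨ g = z := by
    intro g hg
    obtain ⟨k, rfl⟩ := Subgroup.mem_zpowers_iff.1 hg
    rcases Int.even_or_odd' k with ⟨j, rfl | rfl⟩
    · left
      rw [zpow_mul, zpow_ofNat, pow_two, hzz, one_zpow]
    · right
      rw [zpow_add, zpow_mul, zpow_ofNat, pow_two, hzz, one_zpow, one_mul, zpow_one]
  have hZn : (Subgroup.zpowers z).Normal := by
    refine ⟨fun g hg x => ?_⟩
    have h1 : x * g * x⁻¹ = g := by
      rcases hZ g hg with rfl | rfl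
      · group
      · rw [hcen, mul_inv_cancel_right]
    rw [h1]
    exact hg
  have hcard : Nat.card (P ⧸ Subgroup.zpowers z) < m := by
    have h1 := Subgroup.card_eq_card_quotient_mul_card_subgroup (Subgroup.zpowers z)
    rw [Nat.card_zpowers, hz2, hm] at h1
    have h3 : 0 < Nat.card (P ⧸ Subgroup.zpowers z) := Nat.card_pos
    omega
  have hq := ih _ hcard (P ⧸ Subgroup.zpowers z) rfl (h2.to_quotient _) (hcd.quotient _)
  have hle : ⁅⁅(⊤ : Subgroup P), (⊤ : Subgroup P)⁆, (⊤ : Subgroup P)⁆ ≤ Subgroup.zpowers z := by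
    have h1 : Subgroup.map (QuotientGroup.mk' (Subgroup.zpowers z)) ⁅⁅(⊤ : Subgroup P), (⊤ : Subgroup P)⁆, (⊤ : Subgroup P)⁆ = ⊥ := by
      rw [Subgroup.map_commutator, Subgroup.map_commutator,
        Subgroup.map_top_of_surjective _ (QuotientGroup.mk'_surjective _)]
      exact hq
    intro g hg
    have h3 := Subgroup.mem_map_of_mem (QuotientGroup.mk' (Subgroup.zpowers z)) hg
    rw [h1, Subgroup.mem_bot] at h3
    exact (QuotientGroup.eq_one_iff g).1 h3
  obtain ⟨w, hw1⟩ := (Subgroup.ne_bot_iff_exists_ne_one).1 hne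
  have hw := w.2
  have hzw : z ∈ (⁅⁅(⊤ : Subgroup P), (⊤ : Subgroup P)⁆, (⊤ : Subgroup P)⁆ : Subgroup P) := by
    rcases hZ w (hle hw) with h1 | h1
    · exact absurd (Subtype.ext h1) hw1
    · rw [← h1]
      exact hw
  have hmem : z ∈ commutator P := by
    rw [commutator_def]
    exact Subgroup.commutator_mono le_top le_top hzw
  have hconj : ∀ n ∈ commutator P, ∀ x : P, x * n * x⁻¹ = n ∨ x * n * x⁻¹ = z * n := by
    intro n hn x
    have h1 : ⁅n, x⁆ ∈ Subgroup.zpowers z := by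
      rw [commutator_def] at hn
      exact hle (Subgroup.commutator_mem_commutator hn (Subgroup.mem_top x))
    have h3 : x * n * x⁻¹ = ⁅n, x⁆⁻¹ * n := by
      rw [commutatorElement_def]; group
    rw [h3]
    rcases hZ _ ((Subgroup.zpowers z).inv_mem h1) with h4 | h4
    · left
      rw [h4, one_mul]
    · right
      rw [h4]
  have hD : Dat z := ⟨hmem, hz1, hcen, hzz, hconj⟩
  apply hne
  rw [Subgroup.commutator_eq_bot_iff_le_centralizer]
  intro n hn
  rw [Subgroup.mem_centralizer_iff]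
  intro x _
  by_contra hx
  rw [← commutator_def] at hn
  refine core ha hcd hD hn (x₀ := x) fun h3 => hx ?_
  rw [mul_inv_eq_iff_eq_mul] at h3
  exact h3

/-- **(IP2)** A finite 2-group with irreducible character degrees in `{1, 2^a}`, `a ≥ 2`, has class at most 2. -/
theorem ip_two {P : Type u} [Group P] [Finite P] (h2 : IsPGroup 2 P) {a : ℕ} (ha : 2 ≤ a)
    (hcd : ∀ χ : Cfsg.IrrCharacter P, Cfsg.charDegree (χ : P → ℂ) = 1 ∨ Cfsg.charDegree (χ : P → ℂ) = 2 ^ a) :
    ⁅⁅(⊤ : Subgroup P), (⊤ : Subgroup P)⁆, (⊤ : Subgroup P)⁆ = ⊥ :=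
  ip_two_aux ha _ P rfl h2 hcd

end Cfsg.Agent.H709.HT
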